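import Cfsg.Agent.H721.FR.Base
import Mathlib.LinearAlgebra.Semisimple

/-!
# TEAM SR part 2 (S4970), task FR-SEM: reduction for a semisimple element

`cov_sem` : let `c ∈ Isom B`, `c ≠ 1`, be of odd order prime to the characteristic and let `K` be the group generated by
`c` and `P` (a group of isometries which centralise or invert `c`). Then `Red B K`, or `Cov B ε c P` (by induction over
the field `F[c + c⁻¹]`), or `c + c⁻¹ = τ` is a scalar (`τ ≠ 2`, `τ ≠ -2`).
-/

set_option autoImplicit false
set_option linter.unusedSectionVars false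

universe u

namespace Cfsg.Agent.H699.FR

open Cfsg Cfsg.Agent.H955.FS Cfsg.Agent.H721.SR Cfsg.Agent.H721.FR Module Polynomial
open Cfsg.Agent.Characters.Core

/-! ### Transport of `FSZ` -/

theorem fsz_surj {G H : Type u} [Group G] [Group H] [Finite G] (f : G →* H) (hf : Function.Surjective f) {z : G}
    (h : FSZ z) : FSZ (f z) := by
  intro χ hχ
  have h1 := h (χ ∘ f) (isIrr_comp f hf hχ)
  rw [fsi_comp f hf] at h1
  simpa using h1

/-- the image of a subgroup under a homomorphism -/
theorem fszs_map {Γ Δ : Type u} [Group Γ] [Group Δ] {Y : Subgroup Γ} [Finite Y] (f : Γ →* Δ) {z : Γ}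
    (h : FSZs Y z) : FSZs (Y.map f) (f z) := by
  obtain ⟨hz, h1⟩ := h
  refine ⟨Subgroup.mem_map_of_mem f hz, ?_⟩
  exact fsz_surj (f.subgroupMap Y) (f.subgroupMap_surjective Y) h1

/-! ### Functionals on a field extension -/

section Fun

variable {F E : Type u} [Field F] [Field E] [Algebra F E]

theorem exists_t (F E : Type u) [Field F] [Field E] [Algebra F E] : ∃ t : E →ₗ[F] F, t ≠ 0 := by
  by_contra h
  push Not at h
  have h1 := (Module.forall_dual_apply_eq_zero_iff F (1 : E)).1 fun φ => by rw [h φ]; rfl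
  exact one_ne_zero h1

theorem t_unique {t : E →ₗ[F] F} (ht : t ≠ 0) {c : E} (h : ∀ e, t (e * c) = 0) : c = 0 := by
  by_contra hc
  apply ht
  ext e
  have h1 := h (e * c⁻¹)
  rwa [mul_assoc, inv_mul_cancel₀ hc, mul_one] at h1

theorem t_unique' {t : E →ₗ[F] F} (ht : t ≠ 0) {c d : E} (h : ∀ e, t (e * c) = t (e * d)) : c = d := by
  rw [← sub_eq_zero]
  refine t_unique ht fun e => ?_
  rw [mul_sub, map_sub, h, sub_self]

theorem exists_rep [Finite E] {t : E →ₗ[F] F} (ht : t ≠ 0) (l : E →ₗ[F] F) : ∃ c, ∀ e, t (e * c) = l e := by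
  have : Module.Finite F E := inferInstance
  let Φ : E →ₗ[F] (E →ₗ[F] F) := (LinearMap.mul F E).compr₂ t
  have hΦ : ∀ c e, Φ c e = t (c * e) := fun c e => rfl
  have hinj : Function.Injective Φ := by
    rw [injective_iff_map_eq_zero]
    intro c hc
    refine t_unique ht fun e => ?_
    rw [mul_comm, ← hΦ, hc]
    rfl
  have hsurj : Function.Surjective Φ :=
    (LinearMap.injective_iff_surjective_of_finrank_eq_finrank (Subspace.dual_finrank_eq (K := F) (V := E)).symm).1 hinj
  obtain ⟨c, hc⟩ := hsurj l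
  refine ⟨c, fun e => ?_⟩
  rw [mul_comm, ← hΦ, hc]

end Fun

/-- restriction of scalars -/
def resS (F : Type u) {E V : Type u} [Field F] [Field E] [Algebra F E] [AddCommGroup V] [Module F V] [Module E V]
    [IsScalarTower F E V] : (V ≃ₗ[E] V) →* (V ≃ₗ[F] V) where
  toFun g := g.restrictScalars F
  map_one' := rfl
  map_mul' _ _ := rfl

/-! ### The form over the larger field -/

section Ext

variable {F E V : Type u} [Field F] [Finite F] [Field E] [Finite E] [Algebra F E]
  [AddCommGroup V] [Module F V] [Module E V] [IsScalarTower F E V] [FiniteDimensional F V]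
  {B : V →ₗ[F] V →ₗ[F] F}

/-- the form over `E` -/
theorem exists_BE (hs : ∀ (e : E) (v w : V), B (e • v) w = B v (e • w)) {t : E →ₗ[F] F} (ht : t ≠ 0) :
    ∃ BE : V →ₗ[E] V →ₗ[E] E, ∀ (e : E) (v w : V), t (e * BE v w) = B (e • v) w := by
  have hm : ∀ v w : V, ∃ l : E →ₗ[F] F, ∀ e, l e = B (e • v) w := fun v w =>
    ⟨{ toFun := fun e => B (e • v) w
       map_add' := fun a b => by rw [add_smul, map_add, LinearMap.add_apply]
       map_smul' := fun a b => by rw [smul_assoc, map_smul, LinearMap.smul_apply]; rfl }, fun e => rfl⟩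
  choose m hm using hm
  choose f hf using fun v w => exists_rep ht (m v w)
  have hf' : ∀ (v w : V) (e : E), t (e * f v w) = B (e • v) w := fun v w e => by rw [hf, hm]
  refine ⟨LinearMap.mk₂ E f
    (fun a b c => t_unique' ht fun e => by
      rw [mul_add, map_add, hf', hf', hf', smul_add, map_add, LinearMap.add_apply])
    (fun a b c => t_unique' ht fun e => by
      rw [smul_eq_mul, ← mul_assoc, hf', hf', smul_smul])
    (fun a b c => t_unique' ht fun e => by
      rw [mul_add, map_add, hf', hf', hf', map_add])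
    (fun a b c => t_unique' ht fun e => by
      rw [smul_eq_mul, ← mul_assoc, hf', hf', ← hs, smul_smul, mul_comm]), fun e v w => hf' v w e⟩

variable {t : E →ₗ[F] F} {BE : V →ₗ[E] V →ₗ[E] E} (h2 : ∀ (e : E) (v w : V), t (e * BE v w) = B (e • v) w)

include h2 in
theorem fm_BE (ht : t ≠ 0) {ε : F} (hF : Fm B ε) : Fm BE (algebraMap F E ε) where
  two := by
    have h := hF.two
    intro h0
    apply h
    apply (algebraMap F E).injective
    rw [map_ofNat, h0, map_zero]
  eps := by
    rcases hF.eps with h | ⟨h, h1⟩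
    · left
      rw [h, map_one]
    · right
      refine ⟨by rw [h, map_neg, map_one], ?_⟩
      have h3 : Nat.card E = Nat.card F ^ finrank F E := Module.natCard_eq_pow_finrank
      rw [h3, Nat.pow_mod, h1, one_pow]
      rfl
  symm := by
    intro v w
    refine t_unique' ht fun e => ?_
    have hs : ∀ (e : E) (v w : V), B (e • v) w = B v (e • w) := by
      intro e v w
      have h3 := h2 1 v (e • w)
      rw [one_mul, one_smul] at h3
      rw [← h3, ← h2, map_smul, smul_eq_mul]
    have h5 : e * (algebraMap F E ε * BE w v) = ε • (e * BE w v) := by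
      rw [Algebra.smul_def]
      ring
    rw [h5, map_smul, h2, h2, hF.symm, ← hs]
    rfl
  nondeg := by
    intro v hv
    refine hF.nondeg v fun w => ?_
    have h := h2 1 v w
    rw [hv, mul_zero, map_zero, one_smul] at h
    exact h.symm

include h2 in
theorem isom_BE_le (g : V ≃ₗ[E] V) (hg : g ∈ Isom BE) : resS F g ∈ Isom B := by
  intro v w
  have h3 := h2 1 (g v) (g w)
  have h4 := h2 1 v w
  rw [one_smul] at h3 h4
  show B (g v) (g w) = B v w
  rw [← h3, ← h4, hg v w]

include h2 in
theorem mem_isom_BE (ht : t ≠ 0) (g : V ≃ₗ[F] V) (hg : g ∈ Isom B) (hc : ∀ (e : E) (v : V), g (e • v) = e • g v) :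
    g ∈ (Isom BE).map (resS F) := by
  refine ⟨{ g with map_smul' := hc }, ?_, rfl⟩
  intro v w
  refine t_unique' ht fun e => ?_
  show t (e * BE (g v) (g w)) = t (e * BE v w)
  rw [h2, h2, ← hc, hg]

end Ext

/-! ### Selfadjoint endomorphisms -/

section Self

variable {F V : Type u} [Field F] [Finite F] [AddCommGroup V] [Module F V] [FiniteDimensional F V]
  {B : V →ₗ[F] V →ₗ[F] F}

theorem aeval_self {x : Module.End F V} (hx : ∀ v w, B (x v) w = B v (x w)) (a : F[X]) (v w : V) :
    B (aeval x a v) w = B v (aeval x a w) := by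
  induction a using Polynomial.induction_on' generalizing v w with
  | add p q hp hq => simp only [map_add, LinearMap.add_apply, hp, hq]
  | monomial n a =>
    simp only [aeval_monomial, Module.End.mul_apply, Module.algebraMap_end_apply, map_smul, LinearMap.smul_apply]
    congr 1
    induction n generalizing v w with
    | zero => simp
    | succ n ih =>
      rw [pow_succ, Module.End.mul_apply, ih, hx, ← Module.End.mul_apply, ← pow_succ', ← pow_succ]

theorem aeval_comm {x : Module.End F V} {g : V →ₗ[F] V} (hg : ∀ v, g (x v) = x (g v)) (a : F[X]) (v : V) :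
    g (aeval x a v) = aeval x a (g v) := by
  induction a using Polynomial.induction_on' generalizing v with
  | add p q hp hq => rw [map_add, LinearMap.add_apply, LinearMap.add_apply, map_add, hp, hq]
  | monomial n a =>
    simp only [aeval_monomial, Module.End.mul_apply, Module.algebraMap_end_apply, map_smul]
    congr 1
    induction n generalizing v with
    | zero => simp
    | succ n ih => rw [pow_succ, Module.End.mul_apply, Module.End.mul_apply, ih, hg]

/-- the case of a reducible minimal polynomial -/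
theorem red_of_reducible {ε : F} (hF : Fm B ε) {x : Module.End F V} (hx : ∀ v w, B (x v) w = B v (x w))
    (hsq : Squarefree (minpoly F x)) (hn : ¬ Irreducible (minpoly F x)) (hV : (1 : Module.End F V) ≠ 0)
    {K : Subgroup (V ≃ₗ[F] V)} (hK : ∀ g ∈ K, ∀ v, g (x v) = x (g v)) : Red B K := by
  have hint : IsIntegral F x := Algebra.IsIntegral.isIntegral x
  have hmon := minpoly.monic hint
  have hu : ¬ IsUnit (minpoly F x) := by
    intro h
    have h1 := hmon.isUnit_iff.1 h
    have h2 := minpoly.aeval F x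
    rw [h1, map_one] at h2
    exact hV h2
  obtain ⟨a, b, ha, hb, hab⟩ : ∃ a b : F[X], ¬ IsUnit a ∧ ¬ IsUnit b ∧ minpoly F x = a * b := by
    by_contra h
    push Not at h
    refine hn ⟨hu, fun {a b} hab => ?_⟩
    by_contra h1
    push Not at h1
    exact h a b h1.1 h1.2 hab
  have hcop : IsCoprime a b := by
    rw [hab] at hsq
    exact (squarefree_mul_iff.1 hsq).1.isCoprime
  obtain ⟨u, w, huw⟩ := hcop
  have ha0 : a ≠ 0 := by rintro rfl; rw [zero_mul] at hab; exact hmon.ne_zero hab
  have hb0 : b ≠ 0 := by rintro rfl; rw [mul_zero] at hab; exact hmon.ne_zero hab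
  have hna : ∀ p : F[X], p ≠ 0 → aeval x p = 0 → (minpoly F x).natDegree ≤ p.natDegree := fun p hp hp0 =>
    natDegree_le_of_dvd (minpoly.dvd F x hp0) hp
  have hdeg : (minpoly F x).natDegree = a.natDegree + b.natDegree := by rw [hab, natDegree_mul ha0 hb0]
  have hda : 0 < a.natDegree := by
    rw [Nat.pos_iff_ne_zero]
    intro h
    obtain ⟨k, hk⟩ := natDegree_eq_zero.1 h
    apply ha
    rw [← hk]
    refine isUnit_C.2 (isUnit_iff_ne_zero.2 ?_)
    rintro rfl
    exact ha0 (by rw [← hk, C_0])
  have hdb : 0 < b.natDegree := by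
    rw [Nat.pos_iff_ne_zero]
    intro h
    obtain ⟨k, hk⟩ := natDegree_eq_zero.1 h
    apply hb
    rw [← hk]
    refine isUnit_C.2 (isUnit_iff_ne_zero.2 ?_)
    rintro rfl
    exact hb0 (by rw [← hk, C_0])
  have hax : aeval x a ≠ 0 := fun h => by have := hna a ha0 h; omega
  have hbx : aeval x b ≠ 0 := fun h => by have := hna b hb0 h; omega
  have hone : ∀ v : V, aeval x u (aeval x a v) + aeval x w (aeval x b v) = v := by
    intro v
    have h1 := congrArg (fun p => aeval x p v) huw
    simpa using h1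
  have hcm : ∀ (p r : F[X]) (v : V), aeval x p (aeval x r v) = aeval x r (aeval x p v) := by
    intro p r v
    rw [← Module.End.mul_apply, ← map_mul, mul_comm, map_mul, Module.End.mul_apply]
  have hab0 : ∀ v : V, aeval x a (aeval x b v) = 0 := by
    intro v
    rw [← Module.End.mul_apply, ← map_mul, ← hab, minpoly.aeval, LinearMap.zero_apply]
  have hperp : ∀ v1 v2 : V, aeval x a v1 = 0 → aeval x b v2 = 0 → B v1 v2 = 0 := by
    intro v1 v2 h1 h2
    have h3 := hone v1
    rw [h1, map_zero, zero_add] at h3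
    rw [← h3, aeval_self hx, aeval_self hx, hcm, h2, map_zero, map_zero]
  refine ⟨LinearMap.ker (aeval x a), ?_, ?_, ?_, fun g hg => Or.inl ?_⟩
  · intro h
    apply hbx
    ext v
    have h1 : aeval x b v ∈ LinearMap.ker (aeval x a) := hab0 v
    rw [h] at h1
    exact h1
  · intro h
    apply hax
    ext v
    have h1 : v ∈ LinearMap.ker (aeval x a) := by rw [h]; trivial
    exact h1
  · intro v hv h
    refine hF.nondeg v fun y => ?_
    have h3 := hone y
    have h4 : B v (aeval x w (aeval x b y)) = 0 := by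
      refine h _ ?_
      rw [LinearMap.mem_ker, hcm, hab0, map_zero]
    have h5 : B v (aeval x u (aeval x a y)) = 0 := by
      refine hperp _ _ hv ?_
      rw [hcm, hcm b a, hab0, map_zero]
    rw [← h3, map_add, h4, h5, add_zero]
  · have hle : ∀ g ∈ K, (LinearMap.ker (aeval x a)).map (g : V →ₗ[F] V) ≤ LinearMap.ker (aeval x a) := by
      rintro g hg _ ⟨v, hv, rfl⟩
      rw [SetLike.mem_coe, LinearMap.mem_ker] at hv
      rw [LinearMap.mem_ker, ← aeval_comm (g := (g : V →ₗ[F] V)) (hK g hg), hv, map_zero]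
    refine le_antisymm (hle g hg) fun v hv => ?_
    refine ⟨g⁻¹ v, hle g⁻¹ (inv_mem hg) ⟨v, hv, rfl⟩, ?_⟩
    exact LinearEquiv.apply_symm_apply g v

/-- the case of an irreducible minimal polynomial of degree greater than one -/
theorem cov_of_field {ε : F} (hF : Fm B ε) (hI : ∀ m < finrank F V, Hyp.{u} m) {x : Module.End F V}
    (hx : ∀ v w, B (x v) w = B v (x w)) (hirr : Irreducible (minpoly F x)) (hd : 1 < (minpoly F x).natDegree)
    (hV : 0 < finrank F V) {c : V ≃ₗ[F] V} {P : Subgroup (V ≃ₗ[F] V)} (hc : c ∈ Isom B) (hP : P ≤ Isom B)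
    (hcx : ∀ v, c (x v) = x (c v)) (hPx : ∀ g ∈ P, ∀ v, g (x v) = x (g v)) : Cov B ε c P := by
  have : Fact (Irreducible (minpoly F x)) := ⟨hirr⟩
  have hint : IsIntegral F x := Algebra.IsIntegral.isIntegral x
  let E : Type u := AdjoinRoot (minpoly F x)
  let _ : Field E := AdjoinRoot.instField
  let _ : Algebra F E := inferInstanceAs (Algebra F (AdjoinRoot (minpoly F x)))
  have hfin : Module.Finite F E := (AdjoinRoot.powerBasis hirr.ne_zero).finite
  have : Finite E := Module.finite_of_finite F
  have hφ0 : ∀ a : F[X], a ∈ Ideal.span {minpoly F x} → (aeval x : F[X] →ₐ[F] Module.End F V) a = 0 := by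
    intro a ha
    obtain ⟨b, rfl⟩ := Ideal.mem_span_singleton.1 ha
    rw [map_mul, minpoly.aeval, zero_mul]
  let φ : E →ₐ[F] Module.End F V := Ideal.Quotient.liftₐ (Ideal.span {minpoly F x}) (aeval x) hφ0
  have hφ : ∀ a : F[X], φ (AdjoinRoot.mk (minpoly F x) a) = aeval x a := fun a => rfl
  let _ : Module E V := Module.compHom V φ.toRingHom
  have hsm : ∀ (e : E) (v : V), e • v = φ e v := fun e v => rfl
  have : IsScalarTower F E V := ⟨fun a e v => by
    rw [hsm, hsm, map_smul]
    rfl⟩
  have hs : ∀ (e : E) (v w : V), B (e • v) w = B v (e • w) := by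
    intro e v w
    obtain ⟨a, rfl⟩ := AdjoinRoot.mk_surjective e
    rw [hsm, hsm, hφ]
    exact aeval_self hx a v w
  have hfd : FiniteDimensional E V := Module.Finite.of_restrictScalars_finite F E V
  obtain ⟨t, ht⟩ := exists_t F E
  obtain ⟨BE, h2⟩ := exists_BE hs ht
  have hFm := fm_BE h2 ht hF
  have hfr : finrank E V * (minpoly F x).natDegree = finrank F V := by
    have h3 : Module.finrank F E = (minpoly F x).natDegree := by
      rw [(AdjoinRoot.powerBasis hirr.ne_zero).finrank, AdjoinRoot.powerBasis_dim]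
    rw [← h3, mul_comm]
    exact Module.finrank_mul_finrank F E V
  have hlt : finrank E V < finrank F V := by
    rw [← hfr]
    have h4 : 0 < finrank E V := by
      rw [Nat.pos_iff_ne_zero]
      intro h
      rw [h, zero_mul] at hfr
      omega
    nlinarith
  have hY := hI _ hlt E V BE (algebraMap F E ε) hFm rfl
  have hcomm : ∀ g : V ≃ₗ[F] V, (∀ v, g (x v) = x (g v)) → ∀ (e : E) (v : V), g (e • v) = e • g v := by
    intro g hg e v
    obtain ⟨a, rfl⟩ := AdjoinRoot.mk_surjective e
    rw [hsm, hsm, hφ]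
    exact aeval_comm (g := (g : V →ₗ[F] V)) hg a v
  have : Finite V := Module.finite_of_finite F
  have : Finite (V ≃ₗ[E] V) := Finite.of_injective (fun g : V ≃ₗ[E] V => (g : V → V)) DFunLike.coe_injective
  refine ⟨(Isom BE).map (resS F), ?_, ?_, ?_, ?_⟩
  · rintro _ ⟨g, hg, rfl⟩
    exact isom_BE_le h2 g hg
  · exact mem_isom_BE h2 ht c hc (hcomm c hcx)
  · intro g hg
    exact mem_isom_BE h2 ht g (hP hg) (hcomm g (hPx g hg))
  · have h5 := fszs_map (resS F) hY
    have h6 : resS F (zel V (algebraMap F E ε)) = zel V ε := by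
      unfold zel
      by_cases h : ε = 1
      · rw [if_pos h, if_pos (by rw [h, map_one]), map_one]
      · rw [if_neg h, if_neg]
        · rfl
        · intro h7
          apply h
          apply (algebraMap F E).injective
          rw [h7, map_one]
    rw [h6] at h5
    exact h5

end Self

/-! ### The reduction -/

section Main

variable {F V : Type u} [Field F] [Finite F] [AddCommGroup V] [Module F V] [FiniteDimensional F V]
  {B : V →ₗ[F] V →ₗ[F] F}

/-- semisimplicity of elements of order prime to the characteristic -/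
theorem semisimple_of_order {c : V ≃ₗ[F] V} (hp : (orderOf c : F) ≠ 0) :
    Module.End.IsSemisimple (c : V →ₗ[F] V) := by
  refine Module.End.isSemisimple_of_squarefree_aeval_eq_zero (p := X ^ orderOf c - 1)
    (X_pow_sub_one_separable_iff.2 hp).squarefree ?_
  rw [map_sub, map_pow, aeval_X, map_one, sub_eq_zero]
  ext v
  have h1 : ∀ (n : ℕ) (v : V), ((c : V →ₗ[F] V) ^ n) v = (c ^ n) v := by
    intro n
    induction n with
    | zero => intro v; rfl
    | succ n ih => intro v; rw [pow_succ, pow_succ, Module.End.mul_apply, ih]; rfl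
  rw [h1, pow_orderOf_eq_one]
  rfl

/-- **task FR-SEM**, general form: the reduction for a semisimple element `c` of odd order, which commutes with `c'` and
is centralised or inverted by `P` -/
theorem cov_sem_gen {ε : F} (hF : Fm B ε) (hI : ∀ m < finrank F V, Hyp.{u} m) {c : V ≃ₗ[F] V} (hc : c ∈ Isom B)
    (hc1 : c ≠ 1) (h2 : ¬ 2 ∣ orderOf c) (hp : (orderOf c : F) ≠ 0) {c' : V ≃ₗ[F] V} (hc' : c' ∈ Isom B)
    (hcc0 : c' * c = c * c') {P : Subgroup (V ≃ₗ[F] V)} (hP : P ≤ Isom B)
    (hPc : ∀ g ∈ P, g * c * g⁻¹ = c ∨ g * c * g⁻¹ = c⁻¹) :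
    Red B (Subgroup.closure {c'} ⊔ P) ∨ Cov B ε c' P ∨
      ∃ τ : F, (∀ v, c v + c⁻¹ v = τ • v) ∧ τ ≠ 2 ∧ τ ≠ -2 := by
  have hss := semisimple_of_order hp
  let x : Module.End F V := (c : V →ₗ[F] V) + ((c⁻¹ : V ≃ₗ[F] V) : V →ₗ[F] V)
  have hxv : ∀ v, x v = c v + c⁻¹ v := fun v => rfl
  have hcc : ∀ v, c (c⁻¹ v) = v := fun v => LinearEquiv.apply_symm_apply c v
  have hcc' : ∀ v, c⁻¹ (c v) = v := fun v => LinearEquiv.symm_apply_apply c v
  have hV : 0 < finrank F V := by
    rw [Nat.pos_iff_ne_zero]
    intro h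
    have := Module.finrank_zero_iff.1 h
    exact hc1 (LinearEquiv.ext fun v => Subsingleton.elim _ _)
  have hx : ∀ v w, B (x v) w = B v (x w) := by
    intro v w
    have h3 : B (c v) w = B v (c⁻¹ w) := by
      have := hc v (c⁻¹ w)
      rwa [hcc] at this
    have h4 : B (c⁻¹ v) w = B v (c w) := by
      have := hc (c⁻¹ v) w
      rw [hcc] at this
      exact this.symm
    rw [hxv, hxv, map_add, map_add, LinearMap.add_apply, h3, h4, add_comm]
  have hgx : ∀ g : V ≃ₗ[F] V, (g * c * g⁻¹ = c ∨ g * c * g⁻¹ = c⁻¹) → ∀ v, g (x v) = x (g v) := by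
    rintro g (hg | hg) v
    · have h5 : g * c = c * g := by
        rw [mul_inv_eq_iff_eq_mul] at hg
        exact hg
      have h6 : g * c⁻¹ = c⁻¹ * g := by
        rw [eq_inv_mul_iff_mul_eq, ← mul_assoc, ← h5, mul_assoc, mul_inv_cancel, mul_one]
      have h7 : g (c v) = c (g v) := congrArg (fun k : V ≃ₗ[F] V => k v) h5
      have h8 : g (c⁻¹ v) = c⁻¹ (g v) := congrArg (fun k : V ≃ₗ[F] V => k v) h6
      rw [hxv, hxv, map_add, h7, h8]
    · have h5 : g * c = c⁻¹ * g := by
        rw [mul_inv_eq_iff_eq_mul] at hg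
        exact hg
      have h6 : g * c⁻¹ = c * g := by
        rw [← inv_mul_eq_iff_eq_mul, ← mul_assoc, ← h5, mul_assoc, mul_inv_cancel, mul_one]
      have h7 : g (c v) = c⁻¹ (g v) := congrArg (fun k : V ≃ₗ[F] V => k v) h5
      have h8 : g (c⁻¹ v) = c (g v) := congrArg (fun k : V ≃ₗ[F] V => k v) h6
      rw [hxv, hxv, map_add, h7, h8, add_comm]
  have hcx : ∀ v, c' (x v) = x (c' v) := hgx c' (Or.inl (by rw [hcc0, mul_inv_cancel_right]))
  have hKx : ∀ g ∈ Subgroup.closure {c'} ⊔ P, ∀ v, g (x v) = x (g v) := by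
    intro g hg
    let Z : Subgroup (V ≃ₗ[F] V) :=
      { carrier := {g | ∀ v, g (x v) = x (g v)}
        mul_mem' := fun {a b} ha hb v => by
          show a (b (x v)) = x (a (b v))
          rw [hb, ha]
        one_mem' := fun v => rfl
        inv_mem' := fun {a} ha v => by
          apply a.injective
          rw [ha, show a (a⁻¹ (x v)) = x v from LinearEquiv.apply_symm_apply a _,
            show a (a⁻¹ v) = v from LinearEquiv.apply_symm_apply a _] }
    have h9 : Subgroup.closure {c'} ⊔ P ≤ Z :=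
      sup_le ((Subgroup.closure_le Z).2 (Set.singleton_subset_iff.2 hcx)) fun g hg => hgx g (hPc g hg)
    exact h9 hg
  have hpw : ∀ (n : ℕ) (v : V), (((c : V →ₗ[F] V) : Module.End F V) ^ n) v = (c ^ n) v := by
    intro n
    induction n with
    | zero => intro v; rfl
    | succ n ih => intro v; rw [pow_succ, pow_succ, Module.End.mul_apply, ih]; rfl
  have : Finite V := Module.finite_of_finite F
  have : Finite (V ≃ₗ[F] V) := Finite.of_injective (fun g : V ≃ₗ[F] V => (g : V → V)) DFunLike.coe_injective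
  have hord : 0 < orderOf c := orderOf_pos c
  have hmem : x ∈ Algebra.adjoin F {((c : V →ₗ[F] V) : Module.End F V)} := by
    have h3 : x = ((c : V →ₗ[F] V) : Module.End F V) + ((c : V →ₗ[F] V) : Module.End F V) ^ (orderOf c - 1) := by
      ext v
      have h4 : c⁻¹ = c ^ (orderOf c - 1) := by
        rw [inv_eq_iff_mul_eq_one, ← pow_succ', Nat.sub_add_cancel hord, pow_orderOf_eq_one]
      have h5 := hpw (orderOf c - 1) v
      rw [← h4] at h5
      show c v + c⁻¹ v = c v + (((c : V →ₗ[F] V) : Module.End F V) ^ (orderOf c - 1)) v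
      rw [h5]
    rw [h3]
    exact add_mem (Algebra.self_mem_adjoin_singleton F _) (pow_mem (Algebra.self_mem_adjoin_singleton F _) _)
  have hxs : x.IsSemisimple := hss.of_mem_adjoin_singleton hmem
  have hdbl : ∀ s : F, (∀ v, c (c v) + v = (2 * s) • c v) → s * s = 1 → ∀ v, c v = s • v := by
    intro s h3 h4 v
    have h5 : minpoly F ((c : V →ₗ[F] V) : Module.End F V) ∣ (X - C s) ^ 2 := by
      apply minpoly.dvd
      rw [map_pow, map_sub, aeval_X, aeval_C]
      ext v
      rw [pow_two, Module.End.mul_apply, LinearMap.sub_apply, LinearMap.sub_apply, Module.algebraMap_end_apply,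
        Module.algebraMap_end_apply, map_sub, map_smul]
      show c (c v) - s • c v - s • (c v - s • v) = 0
      have h6 := h3 v
      rw [smul_sub, smul_smul, h4, one_smul]
      have h7 : c (c v) - s • c v - (s • c v - v) = (c (c v) + v) - (s + s) • c v := by
        rw [add_smul]; abel
      rw [h7, h6, two_mul, sub_self]
    have h8 := hss.minpoly_squarefree.isRadical 2 _ h5
    obtain ⟨r, hr⟩ := h8
    have h9 : aeval ((c : V →ₗ[F] V) : Module.End F V) (X - C s) = 0 := by
      rw [hr, map_mul, minpoly.aeval, zero_mul]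
    rw [map_sub, aeval_X, aeval_C] at h9
    have h10 := congrArg (fun k : Module.End F V => k v) h9
    have h11 : c v - s • v = 0 := h10
    exact sub_eq_zero.1 h11
  have hsq := hxs.minpoly_squarefree
  have hint : IsIntegral F x := Algebra.IsIntegral.isIntegral x
  by_cases hirr : Irreducible (minpoly F x)
  · by_cases hd : 1 < (minpoly F x).natDegree
    · right; left
      exact cov_of_field hF hI hx hirr hd hV hc' hP hcx fun g hg => hgx g (hPc g hg)
    · right; right
      have hd1 : (minpoly F x).natDegree = 1 := by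
        have := hirr.natDegree_pos
        omega
      have : Nontrivial V := Module.finrank_pos_iff.1 hV
      obtain ⟨τ, hτ⟩ := minpoly.natDegree_eq_one_iff.1 hd1
      have hτv : ∀ v, c v + c⁻¹ v = τ • v := by
        intro v
        rw [← hxv, ← hτ]
        rfl
      have hτ2 : ∀ v, c (c v) + v = τ • c v := by
        intro v
        have h3 := hτv (c v)
        rwa [hcc'] at h3
      refine ⟨τ, hτv, ?_, ?_⟩
      · rintro rfl
        apply hc1
        ext v
        have h3 := hdbl 1 (fun v => by rw [mul_one]; exact hτ2 v) (one_mul 1) v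
        rw [h3, one_smul]
        rfl
      · rintro rfl
        have h3 := hdbl (-1) (fun v => by rw [hτ2, mul_neg, mul_one]) (by rw [neg_mul_neg, one_mul])
        have h4 : c ^ 2 = 1 := by
          ext v
          show c (c v) = v
          rw [h3, h3, smul_smul, neg_mul_neg, one_mul, one_smul]
        have h5 := orderOf_dvd_of_pow_eq_one h4
        rcases (Nat.dvd_prime Nat.prime_two).1 h5 with h6 | h6
        · exact hc1 (orderOf_eq_one_iff.1 h6)
        · exact h2 (by rw [h6])
  · left
    refine red_of_reducible hF hx hsq hirr ?_ hKx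
    intro h
    apply hc1
    ext v
    have h3 := congrArg (fun k : Module.End F V => k v) h
    have h4 : v = 0 := h3
    rw [h4, map_zero, map_zero]

/-- **task FR-SEM**: the reduction for a semisimple element of odd order -/
theorem cov_sem {ε : F} (hF : Fm B ε) (hI : ∀ m < finrank F V, Hyp.{u} m) {c : V ≃ₗ[F] V} (hc : c ∈ Isom B)
    (hc1 : c ≠ 1) (h2 : ¬ 2 ∣ orderOf c) (hp : (orderOf c : F) ≠ 0) {P : Subgroup (V ≃ₗ[F] V)} (hP : P ≤ Isom B)
    (hPc : ∀ g ∈ P, g * c * g⁻¹ = c ∨ g * c * g⁻¹ = c⁻¹) :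
    Red B (Subgroup.closure {c} ⊔ P) ∨ Cov B ε c P ∨
      ∃ τ : F, (∀ v, c v + c⁻¹ v = τ • v) ∧ τ ≠ 2 ∧ τ ≠ -2 :=
  cov_sem_gen hF hI hc hc1 h2 hp hc rfl hP hPc

/-- the reduction, with `Mx` -/
theorem cov_sem_mx {ε : F} (hF : Fm B ε) (hI : ∀ m < finrank F V, Hyp.{u} m) {c : V ≃ₗ[F] V} (hc : c ∈ Isom B)
    (hc1 : c ≠ 1) (h2 : ¬ 2 ∣ orderOf c) (hp : (orderOf c : F) ≠ 0) {P : Subgroup (V ≃ₗ[F] V)} (hP : Mx B c P) :
    Red B (Subgroup.closure {c} ⊔ P) ∨ Cov B ε c P ∨
      ∃ τ : F, (∀ v, c v + c⁻¹ v = τ • v) ∧ τ ≠ 2 ∧ τ ≠ -2 :=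
  cov_sem hF hI hc hc1 h2 hp hP.le hP.act

end Main

end Cfsg.Agent.H699.FR
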